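import Mathlib

set_option autoImplicit false

/-! Non-scalar `2 × 2` matrices over a field are similar to companion matrices. -/

namespace CfsgLib.TwoByTwo

open Matrix

variable {F : Type*} [Field F]

/-- The companion matrix with trace `t` and determinant `d`. -/
def comp2 (t d : F) : Matrix (Fin 2) (Fin 2) F := !![0, -d; 1, t]

/-- `A` is a scalar matrix. -/
def IsScal (A : Matrix (Fin 2) (Fin 2) F) : Prop := A 0 1 = 0 ∧ A 1 0 = 0 ∧ A 0 0 = A 1 1

theorem eq_smul_one_of_isScal {A : Matrix (Fin 2) (Fin 2) F} (h : IsScal A) : A = A 0 0 • 1 := by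
  obtain ⟨h1, h2, h3⟩ := h
  ext i j
  fin_cases i <;> fin_cases j <;> simp [h1, h2, h3]

theorem not_isScal_comp2 (t d : F) : ¬ IsScal (comp2 t d) := by
  rintro ⟨-, h, -⟩
  simp [comp2] at h

theorem exists_similar (A : Matrix (Fin 2) (Fin 2) F) (h : ¬ IsScal A) :
    ∃ P : Matrix (Fin 2) (Fin 2) F, P.det ≠ 0 ∧ A * P = P * comp2 A.trace A.det := by
  obtain ⟨x, y, hxy⟩ : ∃ x y : F,
      x * (A 1 0 * x + A 1 1 * y) - (A 0 0 * x + A 0 1 * y) * y ≠ 0 := by
    by_cases h10 : A 1 0 = 0
    · by_cases h01 : A 0 1 = 0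
      · refine ⟨1, 1, fun e => h ⟨h01, h10, ?_⟩⟩
        rw [h10, h01] at e
        linear_combination -e
      · exact ⟨0, 1, by simpa using h01⟩
    · exact ⟨1, 0, by simpa using h10⟩
  refine ⟨!![x, A 0 0 * x + A 0 1 * y; y, A 1 0 * x + A 1 1 * y], ?_, ?_⟩
  · rw [det_fin_two_of]; exact hxy
  · ext i j
    fin_cases i <;> fin_cases j <;>
      simp [comp2, Matrix.mul_apply, Fin.sum_univ_two, trace_fin_two, det_fin_two] <;> ring

theorem det_comp2 (t d : F) : (comp2 t d).det = d := by simp [comp2, det_fin_two]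

theorem trace_comp2 (t d : F) : (comp2 t d).trace = t := by simp [comp2, trace_fin_two]

/-- The companion matrix as an element of `GL₂`. -/
def compGL (t : F) (d : Fˣ) : GL (Fin 2) F :=
  Matrix.GeneralLinearGroup.mkOfDetNeZero (comp2 t d) (by rw [det_comp2]; exact d.ne_zero)

theorem isConj_compGL (g : GL (Fin 2) F) (h : ¬ IsScal (g : Matrix (Fin 2) (Fin 2) F)) :
    IsConj (compGL (g : Matrix (Fin 2) (Fin 2) F).trace (Matrix.GeneralLinearGroup.det g)) g := by
  obtain ⟨P, hP, he⟩ := exists_similar (g : Matrix (Fin 2) (Fin 2) F) h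
  refine isConj_iff.mpr ⟨Matrix.GeneralLinearGroup.mkOfDetNeZero P hP, ?_⟩
  rw [mul_inv_eq_iff_eq_mul]
  exact Units.ext he.symm

theorem isConj_of_trace_det {g h : GL (Fin 2) F} (hg : ¬ IsScal (g : Matrix (Fin 2) (Fin 2) F))
    (hh : ¬ IsScal (h : Matrix (Fin 2) (Fin 2) F))
    (ht : (g : Matrix (Fin 2) (Fin 2) F).trace = (h : Matrix (Fin 2) (Fin 2) F).trace)
    (hd : Matrix.GeneralLinearGroup.det g = Matrix.GeneralLinearGroup.det h) : IsConj g h := by
  have h1 := isConj_compGL g hg
  have h2 := isConj_compGL h hh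
  rw [ht, hd] at h1
  exact h1.symm.trans h2

theorem trace_eq_of_isConj {g h : GL (Fin 2) F} (hc : IsConj g h) :
    (g : Matrix (Fin 2) (Fin 2) F).trace = (h : Matrix (Fin 2) (Fin 2) F).trace ∧
      Matrix.GeneralLinearGroup.det g = Matrix.GeneralLinearGroup.det h := by
  obtain ⟨c, rfl⟩ := isConj_iff.mp hc
  refine ⟨?_, by rw [map_mul, map_mul, map_inv, mul_inv_cancel_comm]⟩
  rw [Units.val_mul, Units.val_mul, Matrix.trace_mul_cycle, ← Units.val_mul, inv_mul_cancel, Units.val_one,
    Matrix.one_mul]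

/-- The scalar matrix as an element of `GL₂`. -/
def scalGL : Fˣ →* GL (Fin 2) F :=
  Units.map (algebraMap F (Matrix (Fin 2) (Fin 2) F) : F →* Matrix (Fin 2) (Fin 2) F)

theorem scalGL_central (c : Fˣ) (g : GL (Fin 2) F) : g * scalGL c = scalGL c * g :=
  Units.ext (Algebra.commutes (c : F) (g : Matrix (Fin 2) (Fin 2) F)).symm

theorem coe_scalGL (c : Fˣ) : (scalGL c : Matrix (Fin 2) (Fin 2) F) = (c : F) • 1 :=
  Algebra.algebraMap_eq_smul_one _

/-- The number of conjugacy classes of `GL₂`. -/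
theorem card_conjClasses_gl [Fintype F] :
    Nat.card (ConjClasses (GL (Fin 2) F)) = Fintype.card F ^ 2 - 1 := by
  classical
  let f : Fˣ ⊕ (F × Fˣ) → ConjClasses (GL (Fin 2) F) :=
    Sum.elim (fun c => ConjClasses.mk (scalGL c)) (fun p => ConjClasses.mk (compGL p.1 p.2))
  have hsc : ∀ c g, IsConj (scalGL c) g → g = scalGL (F := F) c := by
    intro c g hc
    obtain ⟨a, rfl⟩ := isConj_iff.mp hc
    rw [scalGL_central, mul_inv_cancel_right]
  have hcs : ∀ (t : F) (d c : Fˣ), ¬ IsConj (scalGL c) (compGL t d) := by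
    intro t d c hc
    have h1 := congrArg (fun g : GL (Fin 2) F => (g : Matrix (Fin 2) (Fin 2) F) 1 0) (hsc _ _ hc)
    simp [compGL, comp2, coe_scalGL, Matrix.GeneralLinearGroup.mkOfDetNeZero] at h1
  have hbij : Function.Bijective f := by
    constructor
    · rintro (c | ⟨t, d⟩) (c' | ⟨t', d'⟩) h <;> simp only [f, Sum.elim_inl, Sum.elim_inr] at h <;>
        rw [ConjClasses.mk_eq_mk_iff_isConj] at h
      · have h1 := congrArg (fun g : GL (Fin 2) F => (g : Matrix (Fin 2) (Fin 2) F) 0 0) (hsc _ _ h)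
        simp [coe_scalGL] at h1
        rw [Units.ext h1]
      · exact absurd h (hcs t' d' c)
      · exact absurd h.symm (hcs t d c')
      · obtain ⟨h1, h2⟩ := trace_eq_of_isConj h
        have e1 : ∀ (s : F) (e : Fˣ), Matrix.GeneralLinearGroup.det (compGL s e) = e := fun s e =>
          Units.ext (by simp [compGL, det_comp2, Matrix.GeneralLinearGroup.mkOfDetNeZero])
        have e2 : ∀ (s : F) (e : Fˣ), ((compGL s e : GL (Fin 2) F) : Matrix (Fin 2) (Fin 2) F).trace = s :=
          fun s e => by simp [compGL, trace_comp2, Matrix.GeneralLinearGroup.mkOfDetNeZero]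
        rw [e2, e2] at h1
        rw [e1, e1] at h2
        subst h1 h2
        rfl
    · intro x
      obtain ⟨g, rfl⟩ := ConjClasses.mk_surjective x
      by_cases hg : IsScal (g : Matrix (Fin 2) (Fin 2) F)
      · have h0 : (g : Matrix (Fin 2) (Fin 2) F) 0 0 ≠ 0 := by
          intro h
          have := g.det_ne_zero
          rw [eq_smul_one_of_isScal hg, h] at this
          simp at this
        refine ⟨Sum.inl (Units.mk0 _ h0), ConjClasses.mk_eq_mk_iff_isConj.mpr ?_⟩
        rw [show scalGL (Units.mk0 _ h0) = g from Units.ext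
          ((coe_scalGL _).trans (eq_smul_one_of_isScal hg).symm)]
      · exact ⟨Sum.inr (_, _), ConjClasses.mk_eq_mk_iff_isConj.mpr (isConj_compGL g hg)⟩
  rw [← Nat.card_eq_of_bijective f hbij, Nat.card_sum, Nat.card_prod, Nat.card_units, Nat.card_eq_fintype_card]
  have := Fintype.card_pos (α := F)
  cases h : Fintype.card F with
  | zero => omega
  | succ n =>
    rw [Nat.add_sub_cancel, show (n + 1) ^ 2 = n + (n + 1) * n + 1 by ring, Nat.add_sub_cancel]

/-- The number of conjugacy classes of `SL₂` in characteristic 2. -/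
theorem card_conjClasses_sl [Fintype F] [CharP F 2] :
    Nat.card (ConjClasses (Matrix.SpecialLinearGroup (Fin 2) F)) = Fintype.card F + 1 := by
  classical
  let C : F → Matrix.SpecialLinearGroup (Fin 2) F := fun t => ⟨comp2 t 1, det_comp2 t 1⟩
  have hC : ∀ t, (C t : Matrix (Fin 2) (Fin 2) F) = comp2 t 1 := fun _ => rfl
  let f : Option F → ConjClasses (Matrix.SpecialLinearGroup (Fin 2) F) :=
    fun o => o.elim (ConjClasses.mk 1) (fun t => ConjClasses.mk (C t))
  have htr : ∀ g h : Matrix.SpecialLinearGroup (Fin 2) F, IsConj g h →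
      (g : Matrix (Fin 2) (Fin 2) F).trace = (h : Matrix (Fin 2) (Fin 2) F).trace := fun g h hc =>
    (trace_eq_of_isConj (Matrix.SpecialLinearGroup.toGL.map_isConj hc)).1
  have hbij : Function.Bijective f := by
    constructor
    · have h1C : ∀ t, ¬ IsConj (1 : Matrix.SpecialLinearGroup (Fin 2) F) (C t) := fun t h => by
        have := isConj_one_right.mp h
        refine not_isScal_comp2 t 1 ?_
        rw [← hC, this]
        simp [IsScal]
      rintro (_ | t) (_ | t') h
      · rfl
      · exact absurd (ConjClasses.mk_eq_mk_iff_isConj.mp h) (h1C t')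
      · exact absurd (ConjClasses.mk_eq_mk_iff_isConj.mp h).symm (h1C t)
      · have := htr _ _ (ConjClasses.mk_eq_mk_iff_isConj.mp h)
        rw [hC, hC, trace_comp2, trace_comp2] at this
        rw [this]
    · intro x
      obtain ⟨g, rfl⟩ := ConjClasses.mk_surjective x
      have hd : (g : Matrix (Fin 2) (Fin 2) F).det = 1 := g.det_coe
      by_cases hg : IsScal (g : Matrix (Fin 2) (Fin 2) F)
      · refine ⟨none, ConjClasses.mk_eq_mk_iff_isConj.mpr ?_⟩
        have h2 := eq_smul_one_of_isScal hg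
        rw [h2] at hd
        simp [det_smul] at hd
        have h3 : (g : Matrix (Fin 2) (Fin 2) F) 0 0 = 1 := by
          have := CharTwo.sq_injective (R := F) (a₁ := (g : Matrix (Fin 2) (Fin 2) F) 0 0) (a₂ := 1)
            (by simpa using hd)
          exact this
        rw [show g = 1 from Subtype.ext (by rw [h2, h3, one_smul]; rfl)]
      · obtain ⟨P, hP, he⟩ := exists_similar (g : Matrix (Fin 2) (Fin 2) F) hg
        rw [hd] at he
        obtain ⟨s, hs⟩ := (Finite.injective_iff_bijective.mp (CharTwo.sq_injective (R := F))).2 P.det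
        simp only at hs
        have hs0 : s ≠ 0 := fun h => hP (by rw [← hs, h]; simp)
        refine ⟨some ((g : Matrix (Fin 2) (Fin 2) F).trace), ConjClasses.mk_eq_mk_iff_isConj.mpr ?_⟩
        let P' : Matrix.SpecialLinearGroup (Fin 2) F :=
          ⟨s⁻¹ • P, by rw [det_smul, Fintype.card_fin, ← hs, inv_pow, inv_mul_cancel₀ (pow_ne_zero 2 hs0)]⟩
        refine isConj_iff.mpr ⟨P', ?_⟩
        rw [mul_inv_eq_iff_eq_mul]
        refine Subtype.ext ?_
        rw [Matrix.SpecialLinearGroup.coe_mul, Matrix.SpecialLinearGroup.coe_mul, hC]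
        change s⁻¹ • P * _ = _ * (s⁻¹ • P)
        rw [Matrix.smul_mul, Matrix.mul_smul, he]
  rw [← Nat.card_eq_of_bijective f hbij, Nat.card_eq_fintype_card, Fintype.card_option]

/-- Elements of order the characteristic in `GL₂` are conjugate. -/
theorem isConj_of_orderOf_eq_char [Fintype F] {p : ℕ} [Fact p.Prime] [CharP F p] {g h : GL (Fin 2) F}
    (hg : orderOf g = p) (hh : orderOf h = p) : IsConj g h := by
  have key : ∀ g : GL (Fin 2) F, orderOf g = p → ¬ IsScal (g : Matrix (Fin 2) (Fin 2) F) ∧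
      (g : Matrix (Fin 2) (Fin 2) F).trace = 2 ∧ Matrix.GeneralLinearGroup.det g = 1 := by
    intro g hg
    have h1 : (g : Matrix (Fin 2) (Fin 2) F) ^ p = 1 := by
      rw [← Units.val_pow_eq_pow_val, ← hg, pow_orderOf_eq_one]; rfl
    have hd : (g : Matrix (Fin 2) (Fin 2) F).det = 1 := by
      refine frobenius_inj F p ?_
      rw [frobenius_def, frobenius_def, ← det_pow, h1, det_one, one_pow]
    have hz : ((g : Matrix (Fin 2) (Fin 2) F) - 1).det = 0 := by
      refine eq_zero_of_pow_eq_zero (n := p) ?_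
      rw [← det_pow, sub_pow_char_of_commute (p := p) (Commute.one_right (g : Matrix (Fin 2) (Fin 2) F)),
        h1, one_pow, sub_self, det_zero]
    have htr : (g : Matrix (Fin 2) (Fin 2) F).trace = 2 := by
      rw [det_fin_two] at hz hd
      rw [trace_fin_two]
      simp at hz
      linear_combination hd - hz
    refine ⟨fun hs => ?_, htr, Units.ext hd⟩
    have h2 := eq_smul_one_of_isScal hs
    have hne : g ≠ 1 := fun e => by
      rw [e, orderOf_one] at hg
      exact (Fact.out : p.Prime).ne_one hg.symm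
    refine hne (Units.ext ?_)
    rw [h2] at h1
    rw [smul_pow, one_pow] at h1
    have h3 := congrFun (congrFun h1 0) 0
    simp only [Matrix.smul_apply, Matrix.one_apply_eq, smul_eq_mul, mul_one] at h3
    have h4 : (g : Matrix (Fin 2) (Fin 2) F) 0 0 = 1 := frobenius_inj F p (by
      rw [frobenius_def, frobenius_def, one_pow]; exact h3)
    rw [h2, h4, one_smul]; rfl
  obtain ⟨a1, a2, a3⟩ := key g hg
  obtain ⟨b1, b2, b3⟩ := key h hh
  exact isConj_of_trace_det a1 b1 (a2.trans b2.symm) (a3.trans b3.symm)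

end CfsgLib.TwoByTwo
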